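import Cfsg.Agent.SB.Tor.Refl_m3
import Cfsg.Agent.H976.Cop.RowIso
import Cfsg.Agent.TH.Sv.ClDat_m3
import Cfsg.Agent.GH.TOne.LemPDih_m3
import Cfsg.Agent.TH.Spor.Defs
import Cfsg.Agent.H949.SubInv
import Cfsg.Agent.SporadicA.NortonTrick
import Cfsg.Agent.H889.Enum.Glue
import Cfsg.Agent.H977.T5SporA
import Cfsg.Agent.H149.Sp.Quot
import Cfsg.Agent.FastGrp
import Cfsg.Agent.Prune
set_option linter.all false

section
prune_inst 0x7fdeb9fbefe93fdedfff7e37afdedffdf5acefffffdff9cbffe46b9f9fff4b064bc5fbad8feb98fe4ef7429410f87b53fbfffeffea6fdc7ffffd5ff41ffbffcffdf7b50151dc88b40f382fff03f0678e7f3fffffffffffffffffffffffffffbeffffffffffff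

-- part: TH/Cl/B2/Main
section
prune_inst 0x200000001000002000004000000000081110000000000000000460000000088000000000004000000020000000000000000000010000000000000040000010000008080023000000840000e000180000000000000000000000000000000000000000000000
set_option linter.all false
open scoped Cfsg.Agent.FastGrp

-- part: TH/Cl/B2/Mat
section
/-!
# S3541, `Sp₄(2^a)` with a graph automorphism: matrix lemmas (helper63)

* `exists_idem` : the idempotent attached to an element `b ≠ 1` of odd order with `c2 b = 0`;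
* `c2_of_perfect` : a perfect group centralising such an element has `c2 = 0`;
* `c2_of_inv` : an involution commuting with such an element inverts only elements with `c2 = 0`;
* `Tor` : the shape of the centraliser of an abelian group of odd order invariant under a graph automorphism.
-/

set_option autoImplicit false
set_option linter.unusedSectionVars false

namespace Cfsg.Agent.TH.Cl.B2

open Matrix Cfsg.Agent.ClassicalGeometry.Sp4Graph Cfsg.Agent.H88.FC Cfsg.Agent.H319.FC Cfsg.Agent.SB.B2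

variable {F : Type*} [Field F] [CharP F 2]

theorem st_of_sq {t : Sp4 F} (h : t * t = 1) : st (t : Matrix I4 I4 F) = t := by
  rw [← coe_inv, inv_eq_of_mul_eq_one_left h]

theorem eq_one_of_c {b : Sp4 F} (hb : Odd (orderOf b)) (h1 : c1 b = 0) (h2 : c2 b = 0) : b = 1 := by
  obtain ⟨ρ, h3, h4⟩ := W_scal hb h1
  rw [h2] at h4
  rw [mul_self_eq_zero.1 h4.symm, zero_smul] at h3
  exact eq_one_of_W hb h3

theorem exists_idem {b : Sp4 F} (hb : Odd (orderOf b)) (hb1 : b ≠ 1) (h2 : c2 b = 0) :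
    ∃ e : Matrix I4 I4 F, e * e ≠ 0 ∧ (∀ X : Matrix I4 I4 F, X * b = b * X → X * e = e * X) ∧
      (∀ X Y : Matrix I4 I4 F, X * b = b * X → Y * b = b * Y → X * Y * e = Y * X * e) ∧
      ∀ X : Matrix I4 I4 F, X * b = b * X → st X = X → ∃ m : F, X * e = m • e := by
  have hc : c1 b ≠ 0 := fun h => hb1 (eq_one_of_c hb h h2)
  have hw := W_sq'' b
  rw [h2, zero_smul, add_zero] at hw
  have hns : ∀ k : F, W (b : Matrix I4 I4 F) ≠ k • (1 : Matrix I4 I4 F) := fun k hk => hc (trace_eq_zero hk)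
  have hcm : ∀ X : Matrix I4 I4 F, X * b = b * X → X * W (b : Matrix I4 I4 F) = W (b : Matrix I4 I4 F) * X :=
    fun X hX => (comm_W hX).symm
  have hin : ∀ X : Matrix I4 I4 F, X * b = b * X → InK (W (b : Matrix I4 I4 F)) (W X) := fun X hX => W_inK' hc hX
  have hst : ∀ X : Matrix I4 I4 F, X * b = b * X → st X * b = b * st X := fun X hX => st_comm hX
  have hst' : ∀ X : Matrix I4 I4 F, X * b = b * X → X * st (b : Matrix I4 I4 F) = st (b : Matrix I4 I4 F) * X :=
    fun X hX => comm_st hX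
  have hsw := st_W (b : Matrix I4 I4 F)
  have hwb : W (b : Matrix I4 I4 F) = b + st (b : Matrix I4 I4 F) := rfl
  generalize W (b : Matrix I4 I4 F) = w at *
  generalize c1 b = c at *
  generalize (b : Matrix I4 I4 F) = B at *
  have hwB : w * B = B * w := (hcm B rfl).symm
  -- `W (X w)` is a multiple of `w`
  have key : ∀ X : Matrix I4 I4 F, X * B = B * X → ∃ l : F, W (X * w) = l • w := by
    intro X hX
    obtain ⟨α, β, h⟩ := hin (X * w) (by rw [mul_assoc, hwB, ← mul_assoc, hX, mul_assoc])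
    have h3 : W (X * w) = (X + st X) * w := by rw [W, st_mul, hsw, add_mul, hcm _ (hst X hX)]
    have h4 : W (X * w) * w = c • W (X * w) := by rw [h3, mul_assoc, hw, mul_smul_comm]
    rw [h, add_mul, smul_mul_assoc, smul_mul_assoc, one_mul, hw] at h4
    have h5 : (0 : F) • (1 : Matrix I4 I4 F) + (α + β * c) • w = (c * α) • (1 : Matrix I4 I4 F) + (c * β) • w := by
      rw [zero_smul, zero_add, add_smul, ← smul_smul, h4]
      module
    have h6 : α = 0 := (mul_eq_zero.1 (InK.coeff hns h5).1.symm).resolve_left hc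
    exact ⟨β, by rw [h, h6, zero_smul, zero_add]⟩
  have form : ∀ X : Matrix I4 I4 F, X * B = B * X → ∃ l m : F, W (X * w) = l • w ∧
      c • (X * w) = m • w + l • (w * st B) := by
    intro X hX
    obtain ⟨l, hl⟩ := key X hX
    obtain ⟨m, hm⟩ := key (B * X) (by rw [mul_assoc, hX])
    refine ⟨l, m, hl, ?_⟩
    rw [← smul_mul_assoc l, ← hl, ← hm, ← mul_smul_comm, ← hw, W, W, st_mul (B * X), st_mul, st_mul, hsw, ← hX]
    have h3 : X * (w * w) = X * B * w + X * w * st B := by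
      nth_rewrite 2 [hwb]
      rw [mul_add, hwB, mul_add]
      simp only [mul_assoc]
    have h4 : X * B * w + w * (st X * st B) + (X * w + w * st X) * st B =
      X * B * w + X * w * st B + (w * (st X * st B) + w * (st X * st B)) := by noncomm_ring
    rw [h3, h4, CharTwo.add_self_eq_zero, add_zero]
  have hw0 : w ≠ 0 := fun h => hns 0 (by rw [h, zero_smul])
  refine ⟨w, by rw [hw]; exact smul_ne_zero hc hw0, hcm, fun X Y hX hY => ?_, fun X hX hs => ?_⟩
  · obtain ⟨l, m, -, h3⟩ := form X hX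
    obtain ⟨l', m', -, h4⟩ := form Y hY
    have h5 : ∀ P Q : Matrix I4 I4 F, Q * B = B * Q →
        (c • (P * w)) * (c • (Q * w)) = (c * c * c) • (P * Q * w) := by
      intro P Q hQ
      rw [smul_mul_smul_comm, mul_assoc P, ← mul_assoc w, ← hcm Q hQ, mul_assoc Q, hw, mul_smul_comm, mul_smul_comm,
        smul_smul, mul_assoc P]
    have h6 : w * (w * st B) = w * st B * w := by rw [mul_assoc, hcm _ (hst B rfl)]
    have h7 : (c • (X * w)) * (c • (Y * w)) = (c • (Y * w)) * (c • (X * w)) := by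
      rw [h3, h4]
      simp only [add_mul, mul_add, smul_mul_assoc, mul_smul_comm, h6]
      module
    rw [h5 X Y hY, h5 Y X hX] at h7
    exact smul_right_injective _ (mul_ne_zero (mul_ne_zero hc hc) hc) h7
  · obtain ⟨l, m, h3, h4⟩ := form X hX
    rw [W, st_mul, hsw, hs, ← hcm X hX, CharTwo.add_self_eq_zero] at h3
    rw [(smul_eq_zero.1 h3.symm).resolve_right hw0, zero_smul, add_zero] at h4
    exact ⟨c⁻¹ * m, by rw [← smul_smul, ← h4, smul_smul, inv_mul_cancel₀ hc, one_smul]⟩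

theorem c2_of_fix {y : Sp4 F} {e : Matrix I4 I4 F} (h0 : e ≠ 0) (h : (y : Matrix I4 I4 F) * e = e) : c2 y = 0 := by
  have h1 : st (y : Matrix I4 I4 F) * e = e := by
    nth_rewrite 1 [← h]
    rw [← mul_assoc, st_mul_self, one_mul]
  have h2 : W (y : Matrix I4 I4 F) * e = 0 := by
    rw [W, add_mul, h, h1]
    exact CharTwo.add_self_eq_zero _
  have h3 := congrArg (fun M : Matrix I4 I4 F => M * e) (W_sq'' y)
  simp only [mul_assoc, add_mul, smul_mul_assoc, h2, mul_zero, smul_zero, zero_add, one_mul] at h3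
  exact (smul_eq_zero.1 h3.symm).resolve_right h0

theorem c2_of_perfect {b : Sp4 F} (hb : Odd (orderOf b)) (hb1 : b ≠ 1) (h2 : c2 b = 0) {Y : Type*} [Group Y]
    (ψ : Y →* Sp4 F) (hY : commutator Y = ⊤) (hc : ∀ y, ψ y * b = b * ψ y) (y : Y) : c2 (ψ y) = 0 := by
  obtain ⟨e, h00, -, h3, -⟩ := exists_idem hb hb1 h2
  have h0 : e ≠ 0 := left_ne_zero_of_mul h00
  have hm : ∀ p q : Y, (ψ (p * q) : Matrix I4 I4 F) = (ψ p : Matrix I4 I4 F) * ψ q := fun p q => by
    rw [map_mul]; rfl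
  have h1 : (ψ 1 : Matrix I4 I4 F) = 1 := by rw [map_one]; rfl
  have h4 : ∀ p q : Y, (ψ (p * q) : Matrix I4 I4 F) * e = (ψ (q * p) : Matrix I4 I4 F) * e := fun p q => by
    rw [hm, hm]
    exact h3 _ _ (congrArg Subtype.val (hc p)) (congrArg Subtype.val (hc q))
  let K : Subgroup Y :=
    { carrier := {y | (ψ y : Matrix I4 I4 F) * e = e}
      mul_mem' := fun {p q} hp hq => by
        have hp' : (ψ p : Matrix I4 I4 F) * e = e := hp
        have hq' : (ψ q : Matrix I4 I4 F) * e = e := hq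
        show (ψ (p * q) : Matrix I4 I4 F) * e = e
        rw [hm, mul_assoc, hq', hp']
      one_mem' := by
        show (ψ 1 : Matrix I4 I4 F) * e = e
        rw [h1, one_mul]
      inv_mem' := fun {p} hp => by
        have hp' : (ψ p : Matrix I4 I4 F) * e = e := hp
        show (ψ p⁻¹ : Matrix I4 I4 F) * e = e
        nth_rewrite 1 [← hp']
        rw [← mul_assoc, ← hm, inv_mul_cancel, h1, one_mul] }
  have h5 : commutator Y ≤ K := by
    rw [commutator_def, Subgroup.commutator_le]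
    intro p _ q _
    show (ψ (p * q * p⁻¹ * q⁻¹) : Matrix I4 I4 F) * e = e
    rw [h4, hm, mul_assoc, mul_assoc p, h4 p, ← mul_assoc, ← hm, inv_mul_cancel_right,
      inv_mul_cancel, h1, one_mul]
  exact c2_of_fix h0 (h5 (hY ▸ Subgroup.mem_top y))

theorem c2_of_inv {y t v : Sp4 F} (hy : Odd (orderOf y)) (hy1 : y ≠ 1) (h2 : c2 y = 0) (ht : t * t = 1)
    (hty : t * y = y * t) (hv : t * v * t⁻¹ = v⁻¹) : c2 v = 0 := by
  obtain ⟨e, h00, h3, -, h4⟩ := exists_idem hy hy1 h2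
  have h0 : e ≠ 0 := left_ne_zero_of_mul h00
  have hty' : (t : Matrix I4 I4 F) * y = y * t := congrArg Subtype.val hty
  obtain ⟨m, hm⟩ := h4 _ hty' (st_of_sq ht)
  have hte := h3 _ hty'
  have htt : (t : Matrix I4 I4 F) * t = 1 := congrArg Subtype.val ht
  have hv' : (t : Matrix I4 I4 F) * v * t = st (v : Matrix I4 I4 F) := by
    rw [← coe_inv, ← hv, inv_eq_of_mul_eq_one_left ht]; rfl
  have hw := W_sq'' v
  have hwd : W (v : Matrix I4 I4 F) = v + st (v : Matrix I4 I4 F) := rfl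
  generalize W (v : Matrix I4 I4 F) = w at *
  generalize (t : Matrix I4 I4 F) = τ at *
  have hm1 : m = 1 := by
    have h5 : τ * τ * e = (m * m) • e := by rw [mul_assoc, hm, mul_smul_comm, hm, smul_smul]
    rw [htt, one_mul] at h5
    have h6 : (1 : F) = m * m := smul_left_injective F h0 (by simpa only [one_smul] using h5)
    exact CharTwo.sq_injective (by simp only [sq, ← h6, one_mul])
  rw [hm1, one_smul] at hm
  have hm' : e * τ = e := by rw [← hte, hm]
  rw [← hv'] at hwd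
  have h5 : e * w = e * v * (1 + τ) := by
    rw [hwd, mul_add, mul_add, mul_one, ← mul_assoc, ← mul_assoc, hm']
  have h6 : w * e = (1 + τ) * (v * e) := by
    rw [hwd, add_mul, add_mul, one_mul, mul_assoc, hm, mul_assoc]
  have h7 : (1 + τ) * e = 0 := by
    rw [add_mul, one_mul, hm]
    exact CharTwo.add_self_eq_zero _
  have h8 : (1 + τ) * (1 + τ) = 0 := by
    have : (1 + τ) * (1 + τ) = (1 + τ * τ) + (τ + τ) := by noncomm_ring
    rw [this, htt, CharTwo.add_self_eq_zero, CharTwo.add_self_eq_zero, add_zero]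
  have h9 : e * (w * w) * e = 0 := by
    rw [← mul_assoc, mul_assoc, h5, h6, mul_assoc, ← mul_assoc (1 + τ), h8, zero_mul, mul_zero]
  have h10 : e * w * e = 0 := by rw [h5, mul_assoc, h7, mul_zero]
  rw [hw, mul_add, add_mul, mul_smul_comm, smul_mul_assoc, h10, smul_zero, zero_add, mul_smul_comm, mul_one,
    smul_mul_assoc] at h9
  exact (smul_eq_zero.1 h9).resolve_right h00

/-- the shape of a self-centralising torus `S` with an inverting involution `t` -/
structure Tor (w : Matrix I4 I4 F) (c d : F) (z t : Sp4 F) (S : Subgroup (Sp4 F)) : Prop where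
  sq : w * w = c • w + d • (1 : Matrix I4 I4 F)
  c0 : c ≠ 0
  ns : ∀ k : F, w ≠ k • (1 : Matrix I4 I4 F)
  stw : st w = w
  wz : w * z = z * w
  z2 : c2 z ≠ 0
  zS : z ∈ S
  tt : t * t = 1
  tz : t * z * t⁻¹ = z⁻¹
  tw : w * t = t * w
  form : ∀ s ∈ S, ∃ α β : Matrix I4 I4 F, InK w α ∧ InK w β ∧ (s : Matrix I4 I4 F) = α + β * z

section tor

variable {w : Matrix I4 I4 F} {c d : F} {z t : Sp4 F} {S : Subgroup (Sp4 F)}

theorem Tor.st_form (h : Tor w c d z t S) {α β : Matrix I4 I4 F} (hα : InK w α) (hβ : InK w β) :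
    st (α + β * (z : Matrix I4 I4 F)) = α + β * st (z : Matrix I4 I4 F) := by
  rw [st_add, hα.st h.stw, st_mul, hβ.st h.stw, hβ.comm_of (comm_st h.wz)]

theorem Tor.inv (h : Tor w c d z t S) {s : Sp4 F} (hs : s ∈ S) : t * s * t⁻¹ = s⁻¹ := by
  obtain ⟨α, β, hα, hβ, e⟩ := h.form s hs
  have h1 : (t : Matrix I4 I4 F) * z = st (z : Matrix I4 I4 F) * t := by
    rw [← coe_inv]
    exact congrArg Subtype.val (mul_inv_eq_iff_eq_mul.1 h.tz)
  rw [mul_inv_eq_iff_eq_mul]
  apply Subtype.ext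
  show (t : Matrix I4 I4 F) * s = (s⁻¹ : Sp4 F) * t
  rw [coe_inv, e, h.st_form hα hβ, mul_add, add_mul, hα.comm_of h.tw, ← mul_assoc, ← hβ.comm_of h.tw, mul_assoc, h1,
    mul_assoc]

theorem Tor.eq_one (h : Tor w c d z t S) {s : Sp4 F} (hs : s ∈ S) (h2 : s * s = 1) : s = 1 := by
  obtain ⟨α, β, hα, hβ, e⟩ := h.form s hs
  have h1 := st_of_sq h2
  rw [e, h.st_form hα hβ, add_right_inj] at h1
  have h3 : β * W (z : Matrix I4 I4 F) = 0 := by
    rw [W, mul_add, h1]
    exact CharTwo.add_self_eq_zero _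
  have h4 : β = 0 := by
    have h5 := congrArg (fun M : Matrix I4 I4 F => β * M) (W_sq'' z)
    simp only [← mul_assoc, mul_add, mul_smul_comm, h3, zero_mul, smul_zero, zero_add, mul_one] at h5
    exact (smul_eq_zero.1 h5.symm).resolve_left h.z2
  rw [h4, zero_mul, add_zero] at e
  have h6 : (s : Matrix I4 I4 F) * s = 1 := congrArg Subtype.val h2
  have h7 : (α + 1) * (α + 1) = 0 := by
    have h8 : (α + 1) * (α + 1) = α * α + 1 + (α + α) := by noncomm_ring
    rw [h8, ← e, h6, CharTwo.add_self_eq_zero, CharTwo.add_self_eq_zero, add_zero]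
  have h9 := InK.sq_eq_zero h.c0 h.sq h.ns (hα.add InK.one) h7
  apply Subtype.ext
  rw [e]
  exact CharTwo.add_eq_zero.1 h9

theorem Tor.ne_one (h : Tor w c d z t S) : t ≠ 1 := by
  intro h1
  have h2 := h.tz
  rw [h1, one_mul, inv_one, mul_one, eq_inv_iff_mul_eq_one] at h2
  have h3 := h.z2
  rw [h.eq_one h.zS h2] at h3
  refine h3 (c2_of_fix (e := 1) one_ne_zero ?_)
  rw [mul_one]; rfl

variable [Finite F]

theorem Tor.odd (h : Tor w c d z t S) {s : Sp4 F} (hs : s ∈ S) : Odd (orderOf s) := by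
  rw [← Nat.not_even_iff_odd]
  rintro ⟨k, hk⟩
  have h0 : 0 < orderOf s := orderOf_pos s
  have h1 : s ^ k = 1 := h.eq_one (pow_mem hs k) (by rw [← pow_add, ← hk, pow_orderOf_eq_one])
  have h3 := Nat.le_of_dvd (by omega) (orderOf_dvd_of_pow_eq_one h1)
  omega

theorem Tor.card (hq : 4 ≤ Nat.card F) (h : Tor w c d z t S) :
    Nat.card S * ((Nat.card F - 1) * 2) ≤ Nat.card F ^ 4 := by
  classical
  obtain ⟨l, hl⟩ : ∃ l : F, l * l + l * c + d ≠ 0 := by
    obtain ⟨u, hu0, hu1⟩ := exists_t (F := F) hq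
    by_contra hcon
    push Not at hcon
    have h0 := hcon 0
    have h1 := hcon 1
    have h2 := hcon u
    have h3 : u * (u - 1) = 0 := by linear_combination h2 - u * h1 + (u - 1) * h0
    rcases mul_eq_zero.1 h3 with h4 | h4
    exacts [hu0 h4, hu1 (sub_eq_zero.1 h4)]
  have h2 : (2 : F) = 0 := CharTwo.two_eq_zero
  let κ : Bool → Matrix I4 I4 F := fun i => if i then l • (1 : Matrix I4 I4 F) + (1 : F) • w else 1
  have hκ : ∀ i, InK w (κ i) := fun i => by
    cases i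
    exacts [InK.one, ⟨l, 1, rfl⟩]
  have hκ1 : κ true * κ true = (l * l + d) • (1 : Matrix I4 I4 F) + c • w := by
    show (l • (1 : Matrix I4 I4 F) + (1 : F) • w) * (l • (1 : Matrix I4 I4 F) + (1 : F) • w) = _
    have e : (l • (1 : Matrix I4 I4 F) + (1 : F) • w) * (l • (1 : Matrix I4 I4 F) + (1 : F) • w) =
        (l * l) • (1 : Matrix I4 I4 F) + (l • w + l • w) + w * w := by
      simp only [add_mul, mul_add, smul_mul_assoc, mul_smul_comm, one_mul, mul_one]
      module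
    rw [e, CharTwo.add_self_eq_zero, h.sq]
    module
  have hκ0 : κ false * κ false = (1 : F) • (1 : Matrix I4 I4 F) + (0 : F) • w := by
    show (1 : Matrix I4 I4 F) * 1 = _
    simp
  have hu : ∀ i, ∃ u : Matrix I4 I4 F, u * κ i = 1 := fun i => by
    cases i
    · exact ⟨1, one_mul _⟩
    · refine ⟨(l * l + l * c + d)⁻¹ • (κ true + c • (1 : Matrix I4 I4 F)), ?_⟩
      rw [smul_mul_assoc, add_mul, hκ1, smul_mul_assoc, one_mul]
      have e : (l * l + d) • (1 : Matrix I4 I4 F) + c • w + c • κ true =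
          (l * l + l * c + d) • (1 : Matrix I4 I4 F) + (c • w + c • w) := by
        show _ + c • (l • (1 : Matrix I4 I4 F) + (1 : F) • w) = _
        module
      rw [e, CharTwo.add_self_eq_zero, add_zero, smul_smul, inv_mul_cancel₀ hl, one_smul]
  have key : ∀ p : S × Fˣ × Bool, ∃ r : (F × F) × F × F, (p.2.1 : F) • (κ p.2.2 * ((p.1 : Sp4 F) : Matrix I4 I4 F)) =
      r.1.1 • (1 : Matrix I4 I4 F) + r.1.2 • w + (r.2.1 • (1 : Matrix I4 I4 F) + r.2.2 • w) * z := by
    rintro ⟨s, k, i⟩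
    obtain ⟨α, β, hα, hβ, e⟩ := h.form s s.2
    obtain ⟨a, b, e1⟩ := ((hκ i).mul h.sq hα).smul (k : F)
    obtain ⟨a', b', e2⟩ := ((hκ i).mul h.sq hβ).smul (k : F)
    exact ⟨((a, b), a', b'), by
      show (k : F) • (κ i * ((s : Sp4 F) : Matrix I4 I4 F)) = a • _ + b • w + (a' • _ + b' • w) * _
      rw [← e1, ← e2, e, mul_add, smul_add, smul_mul_assoc, mul_assoc]⟩
  choose r hr using key
  have hN : ∀ (s : Sp4 F) (k : F) (i : Bool), (k • (κ i * (s : Matrix I4 I4 F))) * st (k • (κ i * (s : Matrix I4 I4 F))) =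
      (k * k) • (κ i * κ i) := fun s k i => by
    rw [st_smul, st_mul, (hκ i).st h.stw, smul_mul_smul_comm, mul_assoc, ← mul_assoc (s : Matrix I4 I4 F), mul_st, one_mul]
  have h5 := Nat.card_le_card_of_injective r (by
    rintro ⟨s, k, i⟩ ⟨s', k', i'⟩ e
    have e1 : (k : F) • (κ i * ((s : Sp4 F) : Matrix I4 I4 F)) = (k' : F) • (κ i' * ((s' : Sp4 F) : Matrix I4 I4 F)) :=
      ((hr (s, k, i)).trans (by rw [e])).trans (hr (s', k', i')).symm
    have e2 : ((k : F) * k) • (κ i * κ i) = ((k' : F) * k') • (κ i' * κ i') := by rw [← hN s, ← hN s', e1]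
    have hne : ∀ a b : Fˣ, ((a : F) * a) • (κ true * κ true) ≠ ((b : F) * b) • (κ false * κ false) := by
      intro a b e3
      rw [hκ1, hκ0, smul_add, smul_add, smul_smul, smul_smul, smul_smul, smul_smul] at e3
      exact mul_ne_zero (mul_ne_zero a.ne_zero a.ne_zero) h.c0 ((InK.coeff h.ns e3).2.trans (mul_zero _))
    obtain rfl : i = i' := by
      cases i <;> cases i'
      exacts [rfl, absurd e2.symm (hne _ _), absurd e2 (hne _ _), rfl]
    obtain ⟨u, hu1⟩ := hu i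
    obtain rfl : k = k' := by
      have e3 := congrArg (fun M : Matrix I4 I4 F => u * (u * M)) e2
      simp only [mul_smul_comm, ← mul_assoc, hu1] at e3
      simp only [hu1, mul_one] at e3
      have e4 : (k : F) * k = k' * k' := smul_left_injective F one_ne_zero e3
      exact Units.ext (CharTwo.sq_injective (by simpa only [_root_.sq] using e4))
    have e3 := congrArg (fun M : Matrix I4 I4 F => u * M) (smul_right_injective _ k.ne_zero e1)
    simp only [← mul_assoc, hu1, one_mul] at e3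
    rw [Subtype.ext (Subtype.ext e3)])
  simp only [Nat.card_prod, Nat.card_units, Nat.card_eq_fintype_card (α := Bool), Fintype.card_bool] at h5
  exact h5.trans (le_of_eq (by ring))

end tor

variable [Finite F]

theorem exists_inv (a : Sp4 F) : ∃ s : Sp4 F, s * s = 1 ∧ s * a * s⁻¹ = a⁻¹ ∧ W (a : Matrix I4 I4 F) * s = s * W (a : Matrix I4 I4 F) := by
  obtain ⟨s, t, hs, ht, e⟩ := H976.Cop.sp_eq_mul_invol (F := F) CharTwo.two_eq_zero a
  have hs' : s⁻¹ = s := inv_eq_of_mul_eq_one_left hs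
  have h1 : s * a * s⁻¹ = a⁻¹ := by
    rw [e, ← mul_assoc, hs, one_mul, _root_.mul_inv_rev, inv_eq_of_mul_eq_one_left ht]
  refine ⟨s, hs, h1, ?_⟩
  have h2 : s * a = a⁻¹ * s := mul_inv_eq_iff_eq_mul.1 h1
  have h3 : s * a⁻¹ = a * s := by rw [← h1, hs', ← mul_assoc, ← mul_assoc, hs, one_mul]
  have h4 : (s : Matrix I4 I4 F) * a = st (a : Matrix I4 I4 F) * s := by
    rw [← coe_inv]; exact congrArg Subtype.val h2
  have h5 : (s : Matrix I4 I4 F) * st (a : Matrix I4 I4 F) = a * s := by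
    rw [← coe_inv]; exact congrArg Subtype.val h3
  rw [W, add_mul, mul_add, h4, h5, add_comm]

theorem tor_reg {a : Sp4 F} (ha : Reg a) {S : Subgroup (Sp4 F)} (haS : a ∈ S) (hS : ∀ s ∈ S, s * a = a * s) :
    ∃ t, Tor (W (a : Matrix I4 I4 F)) (c1 a) (c2 a) a t S := by
  obtain ⟨t, h1, h2, h3⟩ := exists_inv a
  exact ⟨t, W_sq'' a, ha.c1, ha.ns, st_W _, W_self_comm a, ha.c2, haS, h1, h2, h3,
    fun s hs => exists_of_comm ha (congrArg Subtype.val (hS s hs))⟩

omit [Finite F] in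
/-- gluing along an idempotent -/
theorem glue {e f : Matrix I4 I4 F} (he : e * e = e) (hf : f * f = f) (hef : e * f = 0) (hfe : f * e = 0) (h1 : e + f = 1)
    {X Y X' Y' : Matrix I4 I4 F} (hX : e * X' = X' * e) (hY : f * Y' = Y' * f) :
    (X * e + Y * f) * (X' * e + Y' * f) = X * X' * e + Y * Y' * f := by
  have h2 : f = 1 - e := eq_sub_of_add_eq' h1
  have h3 : e = 1 - f := eq_sub_of_add_eq h1
  have hX' : f * X' = X' * f := by rw [h2, sub_mul, mul_sub, hX, one_mul, mul_one]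
  have hY' : e * Y' = Y' * e := by rw [h3, sub_mul, mul_sub, hY, one_mul, mul_one]
  have h4 : (X * e + Y * f) * (X' * e + Y' * f) =
    X * (e * X') * e + X * (e * Y') * f + Y * (f * X') * e + Y * (f * Y') * f := by noncomm_ring
  rw [h4, hX, hX', hY, hY']
  simp only [mul_assoc, he, hf, hef, hfe, mul_zero, add_zero]

theorem tor_exc {a b : Sp4 F} (h : Exc a b) {S : Subgroup (Sp4 F)} (haS : a ∈ S)
    (hS : ∀ s ∈ S, s * a = a * s ∧ s * b = b * s) : ∃ t, Tor (W (b : Matrix I4 I4 F)) 1 0 a t S := by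
  obtain ⟨hcomm, hWa, hWb, htb⟩ := h
  have ht : (b : Matrix I4 I4 F).trace ≠ 0 := by rw [htb]; exact one_ne_zero
  have hns : ∀ c : F, W (b : Matrix I4 I4 F) ≠ c • (1 : Matrix I4 I4 F) := fun c hc => ht (trace_eq_zero hc)
  have hea : W (b : Matrix I4 I4 F) * a = a * W (b : Matrix I4 I4 F) := comm_W hcomm
  have hse := st_W (b : Matrix I4 I4 F)
  have hz2 : c2 a ≠ 0 := by
    have h1 := W_sq'' a
    rw [show c1 a = 0 from trace_eq_zero (c := 1) (by rw [hWa, one_smul]), hWa, zero_smul, zero_add, mul_one] at h1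
    intro h2
    rw [h2, zero_smul] at h1
    exact one_ne_zero h1
  have hform : ∀ s ∈ S, ∃ α β : Matrix I4 I4 F, InK (W (b : Matrix I4 I4 F)) α ∧ InK (W (b : Matrix I4 I4 F)) β ∧
      (s : Matrix I4 I4 F) = α + β * a := by
    intro s hs
    have hxa : (s : Matrix I4 I4 F) * a = a * s := congrArg Subtype.val (hS s hs).1
    have hxb : (s : Matrix I4 I4 F) * b = b * s := congrArg Subtype.val (hS s hs).2
    refine ⟨_, _, W_inK' ht (X := st (a : Matrix I4 I4 F) * s) ?_, W_inK' ht hxb, ?_⟩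
    · rw [mul_assoc, hxb, ← mul_assoc, st_comm hcomm, mul_assoc]
    · have e1 : W (st (a : Matrix I4 I4 F) * (s : Matrix I4 I4 F)) + W (s : Matrix I4 I4 F) * (a : Matrix I4 I4 F) =
          (s : Matrix I4 I4 F) * W (a : Matrix I4 I4 F) +
          (st (s : Matrix I4 I4 F) * (a : Matrix I4 I4 F) + st (s : Matrix I4 I4 F) * (a : Matrix I4 I4 F)) := by
        rw [W, W, W, st_mul, st_st, ← comm_st hxa]
        noncomm_ring
      rw [e1, hWa, CharTwo.add_self_eq_zero, mul_one, add_zero]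
  suffices H : ∃ t : Sp4 F, t * t = 1 ∧ t * a * t⁻¹ = a⁻¹ ∧ W (b : Matrix I4 I4 F) * t = t * W (b : Matrix I4 I4 F) by
    obtain ⟨t, h1, h2, h3⟩ := H
    exact ⟨t, by rw [hWb, one_smul, zero_smul, add_zero], one_ne_zero, hns, hse, hea, hz2, haS, h1, h2, h3, hform⟩
  generalize W (b : Matrix I4 I4 F) = e at *
  have key : ∀ e f : Matrix I4 I4 F, e * e = e → f * f = f → e * f = 0 → f * e = 0 → e + f = 1 → st e = e → st f = f →
      e * a = a * e → ∃ s : Matrix I4 I4 F, s * s = 1 ∧ st s = s ∧ e * s = s * e ∧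
        s * a * e = st (a : Matrix I4 I4 F) * s * e := by
    intro e f he hf hef hfe h1 hse hsf hea
    have hea' := comm_st hea
    have h2 : st ((a : Matrix I4 I4 F) * e + 1 * f) = st (a : Matrix I4 I4 F) * e + 1 * f := by
      rw [st_add, st_mul, one_mul, hse, hsf, hea']
    have h3 : ((a : Matrix I4 I4 F) * e + 1 * f) * st ((a : Matrix I4 I4 F) * e + 1 * f) = 1 := by
      rw [h2, glue he hf hef hfe h1 hea' (by rw [mul_one, one_mul]), mul_st, one_mul, one_mul, one_mul, h1]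
    obtain ⟨s, h4, h5, h6⟩ := exists_inv (⟨_, (mem_iff _).2 h3⟩ : Sp4 F)
    have h7 : W ((a : Matrix I4 I4 F) * e + 1 * f) = e := by
      have e1 : (a : Matrix I4 I4 F) * e + 1 * f + (st (a : Matrix I4 I4 F) * e + 1 * f) =
        W (a : Matrix I4 I4 F) * e + (1 * f + 1 * f) := by rw [W, add_mul]; abel
      rw [W, h2, e1, hWa, CharTwo.add_self_eq_zero, add_zero, one_mul]
    have h8 : e * s = s * e := by rw [← h7]; exact h6
    have h9 : (s : Matrix I4 I4 F) * ((a : Matrix I4 I4 F) * e + 1 * f) = (st (a : Matrix I4 I4 F) * e + 1 * f) * s := by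
      rw [← h2]
      exact (congrArg Subtype.val (mul_inv_eq_iff_eq_mul.1 h5)).trans (congrArg (· * (s : Matrix I4 I4 F)) (coe_inv _))
    refine ⟨s, congrArg Subtype.val h4, st_of_sq h4, h8, ?_⟩
    have h10 := congrArg (· * e) h9
    simp only [mul_assoc, ← h8] at h10
    rw [← mul_assoc _ e, add_mul, add_mul, mul_assoc _ e, mul_assoc _ e, he, one_mul, hfe, add_zero, add_zero,
      mul_assoc, h8] at h10
    rw [mul_assoc, mul_assoc, h10]
  have hef : e * (1 + e) = 0 := by rw [mul_add, mul_one, hWb]; exact CharTwo.add_self_eq_zero _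
  have hfe : (1 + e) * e = 0 := by rw [add_mul, one_mul, hWb]; exact CharTwo.add_self_eq_zero _
  have hff : (1 + e) * (1 + e) = 1 + e := by rw [mul_add, mul_one, hfe, add_zero]
  have h1 : e + (1 + e) = 1 := by rw [add_comm, add_assoc, CharTwo.add_self_eq_zero, add_zero]
  have hsf : st (1 + e) = 1 + e := by rw [st_add, st_one, hse]
  have hfa : (1 + e) * a = a * (1 + e) := by rw [add_mul, mul_add, hea, one_mul, mul_one]
  generalize 1 + e = f at *
  obtain ⟨s, s1, s2, s3, s4⟩ := key e f hWb hff hef hfe h1 hse hsf hea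
  obtain ⟨r, r1, r2, r3, r4⟩ := key f e hff hWb hfe hef (by rw [add_comm, h1]) hsf hse hfa
  have g := fun X Y X' Y' => glue (X := X) (Y := Y) (X' := X') (Y' := Y') hWb hff hef hfe h1
  have t1 : (s * e + r * f) * (s * e + r * f) = 1 := by rw [g _ _ _ _ s3 r3, s1, r1, one_mul, one_mul, h1]
  have t2 : st (s * e + r * f) = s * e + r * f := by rw [st_add, st_mul, st_mul, s2, r2, hse, hsf, s3, r3]
  have hd : ∀ X : Matrix I4 I4 F, X = X * e + X * f := fun X => by rw [← mul_add, h1, mul_one]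
  refine ⟨⟨s * e + r * f, (mem_iff _).2 (by rw [t2, t1])⟩, Subtype.ext t1, ?_, ?_⟩
  · rw [mul_inv_eq_iff_eq_mul]
    apply Subtype.ext
    show (s * e + r * f) * a = (a⁻¹ : Sp4 F) * (s * e + r * f)
    rw [coe_inv, mul_add, ← mul_assoc, ← mul_assoc, ← s4, ← r4, add_mul, mul_assoc, mul_assoc, hea, hfa, mul_assoc, mul_assoc]
  · show e * (s * e + r * f) = (s * e + r * f) * e
    rw [mul_add, add_mul, ← r3, ← mul_assoc e f, hef, zero_mul, r3, mul_assoc r, hfe, mul_zero, ← mul_assoc, s3]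

section graph

variable {α : MulAut (Sp4 F)}

theorem exists_tor (hα : ∀ y, c1 (α y) = 0 ↔ c2 y = 0) {A : Subgroup (Sp4 F)} (hA : A ≠ ⊥)
    (hcomm : ∀ a ∈ A, ∀ b ∈ A, a * b = b * a) (hodd : ∀ a ∈ A, Odd (orderOf a)) (hinv : ∀ a, α a ∈ A ↔ a ∈ A) :
    ∃ w c d z t, Tor w c d z t (Subgroup.centralizer (A : Set (Sp4 F))) := by
  have hle : ∀ a ∈ A, a ∈ Subgroup.centralizer (A : Set (Sp4 F)) := fun a ha b hb => hcomm b hb a ha
  by_cases hex : ∃ a ∈ A, c1 a * c2 a ≠ 0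
  · obtain ⟨a, ha, h1⟩ := hex
    obtain ⟨t, ht⟩ := tor_reg ⟨left_ne_zero_of_mul h1, right_ne_zero_of_mul h1⟩ (hle a ha) fun s hs => (hs a ha).symm
    exact ⟨_, _, _, _, t, ht⟩
  push Not at hex
  obtain ⟨a₀, ha₀, ha₀1⟩ : ∃ a ∈ A, a ≠ 1 := by
    obtain ⟨a, h⟩ := Subgroup.ne_bot_iff_exists_ne_one.1 hA
    exact ⟨a.1, a.2, fun h' => h (Subtype.ext h')⟩
  obtain ⟨a, b, ha, hb, ha1, hb1, h1a, h2b⟩ : ∃ a b : Sp4 F, a ∈ A ∧ b ∈ A ∧ a ≠ 1 ∧ b ≠ 1 ∧ c1 a = 0 ∧ c2 b = 0 := by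
    rcases mul_eq_zero.1 (hex a₀ ha₀) with h4 | h4
    · obtain ⟨b, rfl⟩ := α.surjective a₀
      exact ⟨α b, b, ha₀, (hinv b).1 ha₀, ha₀1, fun h => ha₀1 (by rw [h, map_one]), h4, (hα b).1 h4⟩
    · exact ⟨α a₀, a₀, (hinv _).2 ha₀, ha₀, by rwa [Ne, map_eq_one_iff _ α.injective], ha₀1, (hα _).2 h4, h4⟩
  have hE := exc_of (hcomm a ha b hb) (hodd a ha) (hodd b hb) (hodd _ (mul_mem ha hb)) (hodd _ (mul_mem ha (inv_mem hb)))
    ha1 hb1 h1a h2b (hex _ (mul_mem ha hb)) (hex _ (mul_mem ha (inv_mem hb)))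
  obtain ⟨t, ht⟩ := tor_exc hE (hle a ha) fun s hs => ⟨(hs a ha).symm, (hs b hb).symm⟩
  exact ⟨_, _, _, _, t, ht⟩

/-- the centraliser of the inverting involution is a `2`-group -/
theorem Tor.cent {w : Matrix I4 I4 F} {c d : F} {z t : Sp4 F} {S : Subgroup (Sp4 F)} (h : Tor w c d z t S)
    (hα : ∀ y, c1 (α y) = 0 ↔ c2 y = 0) (hS : ∀ s ∈ S, α s ∈ S) {y : Sp4 F} (hy : Odd (orderOf y))
    (hyt : t * y = y * t) : y = 1 := by
  by_contra hy1
  by_cases h2 : c2 y = 0
  · exact h.z2 (c2_of_inv hy hy1 h2 h.tt hyt h.tz)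
  by_cases h1 : c1 y = 0
  swap
  · exact h.ne_one (eq_one_of_sq ⟨h1, h2⟩ hyt h.tt)
  obtain ⟨y, rfl⟩ := α.surjective y
  obtain ⟨t, rfl⟩ := α.surjective t
  refine h.z2 (c2_of_inv (y := y) (t := t) (by rwa [MulEquiv.orderOf_eq] at hy) (fun e => hy1 (by rw [e, map_one]))
    ((hα y).1 h1) (α.injective ?_) (α.injective ?_) (α.injective ?_))
  · rw [map_mul, map_one, h.tt]
  · rw [map_mul, map_mul, hyt]
  · rw [map_mul, map_mul, map_inv, map_inv, h.inv (hS z h.zS)]

theorem card_cent (hq : 4 ≤ Nat.card F) {t : Sp4 F} (h : ∀ y : Sp4 F, Odd (orderOf y) → t * y = y * t → y = 1) :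
    Nat.card (Subgroup.centralizer {t}) ≤ Nat.card F ^ 4 := by
  have := Fintype.ofFinite F
  have h2 : 2 ∣ Nat.card F := by
    obtain ⟨n, -, hn⟩ := FiniteField.card F 2
    rw [Nat.card_eq_fintype_card, hn]
    exact dvd_pow_self 2 n.ne_zero
  have h3 : ∀ k, k ≠ 0 → Odd (Nat.card F ^ k - 1) := fun k hk =>
    Nat.Even.sub_odd (Nat.one_le_pow _ _ (by omega)) ((even_iff_two_dvd.2 h2).pow_of_ne_zero hk) odd_one
  have h4 := Subgroup.card_subgroup_dvd_card (Subgroup.centralizer {t})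
  rw [card_sp] at h4
  refine Nat.le_of_dvd (by positivity) (Nat.Coprime.dvd_of_dvd_mul_right (Nat.coprime_of_dvd fun p hp h5 h6 => ?_) h4)
  have := Fact.mk hp
  obtain ⟨y, hy⟩ := exists_prime_orderOf_dvd_card' p h5
  have h7 : orderOf (y : Sp4 F) = p := by rw [Subgroup.orderOf_coe, hy]
  have h8 := h y (h7 ▸ ((h3 2 two_ne_zero).mul (h3 4 (by norm_num))).of_dvd_nat h6)
    (Subgroup.mem_centralizer_singleton_iff.1 y.2).symm
  rw [h8, orderOf_one] at h7
  exact hp.one_lt.ne h7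

/-- the local case inside `Sp₄(F)` -/
theorem loc_core (hq : 4 ≤ Nat.card F) (hα : ∀ y, c1 (α y) = 0 ↔ c2 y = 0) {A : Subgroup (Sp4 F)} (hA : A ≠ ⊥)
    (hcomm : ∀ a ∈ A, ∀ b ∈ A, a * b = b * a) (hodd : ∀ a ∈ A, Odd (orderOf a)) (hinv : ∀ a, α a ∈ A ↔ a ∈ A) :
    ∃ t : Sp4 F, t ≠ 1 ∧ t * t = 1 ∧
      (∀ s ∈ Subgroup.centralizer (A : Set (Sp4 F)), t * s * t⁻¹ = s⁻¹ ∧ Odd (orderOf s)) ∧
      (∀ y : Sp4 F, Odd (orderOf y) → t * y = y * t → y = 1) ∧
      Nat.card (Subgroup.centralizer (A : Set (Sp4 F))) ^ 2 < (Subgroup.centralizer {t}).index := by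
  obtain ⟨w, c, d, z, t, h⟩ := exists_tor hα hA hcomm hodd hinv
  have h1 : ∀ y : Sp4 F, Odd (orderOf y) → t * y = y * t → y = 1 := fun y hy hyt => h.cent hα (fun s hs a ha => by
    obtain ⟨a, rfl⟩ := α.surjective a
    rw [← map_mul, ← map_mul, hs a ((hinv a).1 ha)]) hy hyt
  refine ⟨t, h.ne_one, h.tt, fun s hs => ⟨h.inv hs, h.odd hs⟩, h1, ?_⟩
  have h2 := card_cent hq h1
  have h3 := h.card hq
  have h4 := (Subgroup.centralizer {t}).card_mul_index
  rw [card_sp] at h4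
  generalize Nat.card (Subgroup.centralizer (A : Set (Sp4 F))) = σ at *
  generalize Nat.card (Subgroup.centralizer {t}) = k at *
  generalize (Subgroup.centralizer {t}).index = n at *
  generalize Nat.card F = q at *
  have h5 : (q ^ 2 - 1) * (q ^ 4 - 1) ≤ n :=
    Nat.le_of_mul_le_mul_left (h4 ▸ Nat.mul_le_mul_right n h2) (by positivity : 0 < q ^ 4)
  by_contra h6
  have h7 : (q ^ 2 - 1) * (q ^ 4 - 1) * ((q - 1) * 2) ^ 2 ≤ (q ^ 4) ^ 2 :=
    calc _ ≤ σ ^ 2 * ((q - 1) * 2) ^ 2 := Nat.mul_le_mul_right _ (by omega)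
      _ = (σ * ((q - 1) * 2)) ^ 2 := by ring
      _ ≤ _ := Nat.pow_le_pow_left h3 2
  have e2 : 4 ^ 2 ≤ q ^ 2 := Nat.pow_le_pow_left hq 2
  have e4 : 4 ^ 4 ≤ q ^ 4 := Nat.pow_le_pow_left hq 4
  have h8 : (15 * q ^ 2) * (255 * q ^ 4) * (3 * q) ^ 2 ≤ (16 * (q ^ 2 - 1)) * (256 * (q ^ 4 - 1)) * (2 * ((q - 1) * 2)) ^ 2 :=
    Nat.mul_le_mul (Nat.mul_le_mul (by omega) (by omega)) (Nat.pow_le_pow_left (by omega) 2)
  have h9 : (15 * q ^ 2) * (255 * q ^ 4) * (3 * q) ^ 2 = 34425 * (q ^ 4) ^ 2 := by ring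
  have h10 : (16 * (q ^ 2 - 1)) * (256 * (q ^ 4 - 1)) * (2 * ((q - 1) * 2)) ^ 2 =
    16384 * ((q ^ 2 - 1) * (q ^ 4 - 1) * ((q - 1) * 2) ^ 2) := by ring
  have h11 : 0 < (q ^ 4) ^ 2 := by positivity
  omega

end graph

end Cfsg.Agent.TH.Cl.B2
end

-- part: TH/Cl/B2/Main
section
/-!
# S3541, `Sp₄(2^a)` with a graph automorphism (helper63)

`boxB2_of : BoxTri → Sv.BoxEl → Sims → BoxB2`.
-/

set_option autoImplicit false
set_option linter.unusedSectionVars false

namespace Cfsg.Agent.TH.Cl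

open Cfsg.Agent.H88.FC Cfsg.Agent.H319.FC Cfsg.Agent.SB.B2 Cfsg.Agent.ClassicalGeometry.SympAutSemi

namespace B2

section abs

variable {G : Type} [Group G] [Finite G] {T H E : Subgroup G} {m : ℕ}

/-- an involution which inverts `C_T(E)` and centralises no element of odd order has a small class -/
theorem loc_G (hEl : Sv.BoxEl) (hT : AS T) (hH : Half H m) (hd : ¬ 2 ∣ Nat.card H / m) (hE : E ≤ T)
    (hc : ∀ x ∈ E, ∀ y ∈ E, x * y = y * x) (hN : Subgroup.normalizer (E : Set G) = H) {τ : G} (hτ : τ ∈ T) (h1 : τ ≠ 1)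
    (h2 : τ * τ = 1) (hinv : ∀ s ∈ T ⊓ Subgroup.centralizer (E : Set G), τ * s * τ⁻¹ = s⁻¹ ∧ Odd (orderOf s))
    (hC : ∀ y ∈ T, Odd (orderOf y) → τ * y = y * τ → y = 1) :
    (Subgroup.centralizer {τ}).relIndex T ≤ Nat.card ↥(T ⊓ Subgroup.centralizer (E : Set G)) ^ 2 := by
  have hTn := hT.normal
  set S := T ⊓ Subgroup.centralizer (E : Set G) with hS
  have hES : E ≤ S := fun x hx => ⟨hE hx, fun y hy => hc y hy x hx⟩
  have hτH : τ ∈ H := by
    rw [← hN]
    exact Subgroup.mem_normalizer_fintype (S := (E : Set G)) fun x hx => by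
      rw [(hinv x (hES hx)).1]; exact inv_mem hx
  have hSn : ∀ h ∈ H, ∀ s ∈ S, h * s * h⁻¹ ∈ S := fun h hh s hs => ⟨hTn.conj_mem s hs.1 h, fun x hx => by
    have h3 := hs.2 _ ((Subgroup.mem_normalizer_iff''.1 (hN.ge hh) x).1 hx)
    calc x * (h * s * h⁻¹) = h * (h⁻¹ * x * h * s) * h⁻¹ := by group
      _ = h * s * h⁻¹ * x := by rw [h3]; group⟩
  have hSc : ∀ a ∈ S, ∀ b ∈ S, a * b = b * a := fun a ha b hb => by
    apply inv_injective
    rw [← (hinv _ (mul_mem ha hb)).1, mul_inv_rev, ← (hinv a ha).1, ← (hinv b hb).1]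
    group
  have key : ∀ y ∈ clsIn T H τ, ∀ s ∈ S, y * s * y⁻¹ = s⁻¹ := by
    rintro _ ⟨hy, u, hu, rfl⟩ s hs
    have h3 := hSn _ hy s hs
    have h4 := mul_mem hs h3
    have h5 : u⁻¹ * τ * u * (s * (u⁻¹ * τ * u * s * (u⁻¹ * τ * u)⁻¹)) =
        s * (u⁻¹ * τ * u * s * (u⁻¹ * τ * u)⁻¹) * (u⁻¹ * τ * u) := by
      have h6 : τ⁻¹ = τ := inv_eq_of_mul_eq_one_left h2
      rw [hSc _ hs _ h3]
      calc _ = u⁻¹ * τ * u * (s * (u⁻¹ * τ * u * s * (u⁻¹ * τ * u)⁻¹)) := by rw [hSc _ hs _ h3]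
        _ = u⁻¹ * τ * u * (u⁻¹ * τ * u * s * (u⁻¹ * τ * u)⁻¹ * s) := by rw [hSc _ hs _ h3]
        _ = u⁻¹ * (τ * τ) * u * s * u⁻¹ * τ⁻¹ * u * s := by group
        _ = s * (u⁻¹ * τ * u * s * (u⁻¹ * τ * u)⁻¹) * (u⁻¹ * τ * u) := by rw [h2, h6]; group
        _ = _ := by rw [hSc _ hs _ h3]
    generalize hp : s * (u⁻¹ * τ * u * s * (u⁻¹ * τ * u)⁻¹) = p at h4 h5
    have h6 : u * p * u⁻¹ = 1 := hC _ (hTn.mem_comm_iff.1 (by simpa using h4.1))
      (by rw [← MulAut.conj_apply, MulEquiv.orderOf_eq]; exact (hinv p h4).2) (by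
        calc τ * (u * p * u⁻¹) = u * (u⁻¹ * τ * u * p) * u⁻¹ := by group
          _ = _ := by rw [h5]; group)
    have h7 : p = 1 := by simpa only [_root_.conj_eq_one_iff] using h6
    rw [h7] at hp
    exact eq_inv_of_mul_eq_one_right hp
  have h3 : (clsIn T H τ).ncard ≤ Nat.card S := by
    rw [← Nat.card_coe_set_eq]
    refine Nat.card_le_card_of_injective (fun y : clsIn T H τ => (⟨τ * y, T.mul_mem hτ ?_, fun x hx => ?_⟩ : S)) ?_
    · obtain ⟨-, u, hu, e⟩ := y.2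
      exact e ▸ T.mul_mem (T.mul_mem (T.inv_mem hu) hτ) hu
    · have h4 := key y y.2 x (hES hx)
      have h5 := (hinv _ (inv_mem (hES hx))).1
      rw [inv_inv, ← h4] at h5
      nth_rewrite 1 [← h5]
      group
    · intro y y' e
      exact Subtype.ext (mul_left_cancel (congrArg Subtype.val e : τ * y = τ * y'))
  have h4 : (Subgroup.centralizer {τ}).relIndex (H ⊓ T) ≤ Nat.card S := by
    rw [← GH.E.ncard_orbit]
    refine (Set.ncard_le_ncard ?_).trans h3
    rintro _ ⟨k, hk, rfl⟩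
    exact ⟨mul_mem (mul_mem hk.1 hτH) (inv_mem hk.1), k⁻¹, inv_mem hk.2, by rw [inv_inv]⟩
  have hn : ∀ a ∈ H, ∀ y ∈ H ⊓ T, a * y * a⁻¹ ∈ H ⊓ T := fun a ha y hy =>
    ⟨H.mul_mem (H.mul_mem ha hy.1) (H.inv_mem ha), hTn.conj_mem y hy.2 a⟩
  have h5 := hEl G T H (H ⊓ T) (H ⊓ T) m 2 1 τ hT hH Nat.prime_two hd inf_le_left hn le_rfl (fun a ha => hn a ha.1)
    ⟨hτH, hτ⟩ ((orderOf_eq_prime (by rw [sq, h2]) h1).trans (pow_one 2).symm)
  rw [sq]
  exact h5.trans (Nat.mul_le_mul ((min_le_right _ _).trans h4) h3)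

/-- the same along an isomorphism -/
theorem loc_X (hEl : Sv.BoxEl) (hT : AS T) (hH : Half H m) (hd : ¬ 2 ∣ Nat.card H / m) (hE : E ≤ T)
    (hc : ∀ x ∈ E, ∀ y ∈ E, x * y = y * x) (hN : Subgroup.normalizer (E : Set G) = H) {X : Type*} [Group X] (e : T ≃* X)
    {A : Subgroup X} (hA : ∀ x : T, e x ∈ A ↔ (x : G) ∈ E) {t : X} (h1 : t ≠ 1) (h2 : t * t = 1)
    (hinv : ∀ s ∈ Subgroup.centralizer (A : Set X), t * s * t⁻¹ = s⁻¹ ∧ Odd (orderOf s))
    (hC : ∀ y : X, Odd (orderOf y) → t * y = y * t → y = 1) :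
    (Subgroup.centralizer {t}).index ≤ Nat.card (Subgroup.centralizer (A : Set X)) ^ 2 := by
  obtain ⟨τ, rfl⟩ := e.surjective t
  have hS : ∀ s : T, (s : G) ∈ Subgroup.centralizer (E : Set G) → e s ∈ Subgroup.centralizer (A : Set X) := by
    intro s hs a ha
    obtain ⟨a, rfl⟩ := e.surjective a
    rw [← map_mul, ← map_mul]
    exact congrArg e (Subtype.ext (hs a ((hA a).1 ha)))
  have ho : ∀ s : T, orderOf (e s) = orderOf (s : G) := fun s => by rw [MulEquiv.orderOf_eq, Subgroup.orderOf_coe]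
  have h3 := loc_G hEl hT hH hd hE hc hN τ.2 (fun h => h1 (by rw [show τ = 1 from Subtype.ext h, map_one]))
    (congrArg Subtype.val (e.injective (by rw [map_mul, h2, map_one]) : τ * τ = 1))
    (fun s hs => by
      obtain ⟨h4, h5⟩ := hinv _ (hS ⟨s, hs.1⟩ hs.2)
      rw [← map_inv, ← map_inv, ← map_mul, ← map_mul] at h4
      exact ⟨congrArg Subtype.val (e.injective h4), ho ⟨s, hs.1⟩ ▸ h5⟩)
    (fun y hy h4 h5 => by
      have h6 := hC (e ⟨y, hy⟩) (by rwa [ho]) (by rw [← map_mul, ← map_mul]; exact congrArg e (Subtype.ext h5))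
      exact congrArg Subtype.val (e.injective (h6.trans (map_one e).symm)))
  have h4 : (Subgroup.centralizer {(τ : G)}).subgroupOf T = (Subgroup.centralizer {e τ}).comap e.toMonoidHom := by
    ext x
    rw [Subgroup.mem_subgroupOf, Subgroup.mem_comap, Subgroup.mem_centralizer_singleton_iff,
      Subgroup.mem_centralizer_singleton_iff, MulEquiv.coe_toMonoidHom, ← map_mul, ← map_mul, e.injective.eq_iff,
      Subtype.ext_iff]
    rfl
  rw [Subgroup.relIndex, h4, Subgroup.index_comap_of_surjective _ e.surjective] at h3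
  refine h3.trans (Nat.pow_le_pow_left ?_ 2)
  have := Finite.of_equiv _ e.toEquiv
  refine Nat.card_le_card_of_injective (fun s : ↥(T ⊓ Subgroup.centralizer (E : Set G)) =>
    (⟨e ⟨s, s.2.1⟩, hS _ s.2.2⟩ : Subgroup.centralizer (A : Set X))) fun s s' h => ?_
  exact Subtype.ext (congrArg Subtype.val (e.injective (congrArg Subtype.val h)) :)

theorem perfect_of {Y : Type*} [Group Y] (hs : IsSimpleGroup Y) (hn : ¬ IsMulCommutative Y) : commutator Y = ⊤ := by
  rcases (inferInstance : (commutator Y).Normal).eq_bot_or_eq_top with h | h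
  · rw [commutator_eq_bot_iff_center_eq_top, Cases.center_eq_bot hs hn] at h
    exact absurd h bot_ne_top
  · exact h

theorem exists_odd {Y : Type*} [Group Y] [Finite Y] (hs : IsSimpleGroup Y) (hn : ¬ IsMulCommutative Y) :
    ∃ y : Y, y ≠ 1 ∧ Odd (orderOf y) := by
  by_contra h
  push Not at h
  have h1 : IsPGroup 2 Y := by
    refine IsPGroup.of_card (n := (Nat.card Y).primeFactorsList.length)
      (Nat.eq_prime_pow_of_unique_prime_dvd Nat.card_pos.ne' fun {p} hp hd => ?_)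
    have := Fact.mk hp
    obtain ⟨y, hy⟩ := exists_prime_orderOf_dvd_card' p hd
    by_contra h2
    exact h y (fun h3 => hp.one_lt.ne (by rw [← hy, h3, orderOf_one])) (hy ▸ hp.odd_of_ne_two h2)
  have h2 := h1.center_nontrivial
  rw [Cases.center_eq_bot hs hn] at h2
  exact not_nontrivial _ h2

end abs

variable {G : Type} [Group G] [Finite G] {T H : Subgroup G} {F : Type} [Field F] [CharP F 2] [Finite F]

theorem mul_false [T.Normal] (e : T ≃* Sp4 F) {h : G} (hh : h ∈ H)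
    (hα : ∀ x : T, c1 (e (MulAut.conjNormal h x)) = 0 ↔ c2 (e x) = 0) {𝓢 : Set (Subgroup G)} (hM : Mul T H 𝓢) : False := by
  have hle : ∀ S ∈ 𝓢, S ≤ T := fun S hS => (hM.le S hS).trans inf_le_right
  have ho : ∀ s : T, orderOf (e s) = orderOf (s : G) := fun s => by rw [MulEquiv.orderOf_eq, Subgroup.orderOf_coe]
  have hne : ∀ s : T, (s : G) ≠ 1 → e s ≠ 1 := fun s hs h1 => hs (congrArg Subtype.val (e.injective (h1.trans (map_one e).symm)))
  have hoth : ∀ S, ∃ S' ∈ 𝓢, S' ≠ S := fun S => hM.two.exists_ne S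
  have hodd : ∀ S ∈ 𝓢, ∃ x : T, (x : G) ∈ S ∧ (x : G) ≠ 1 ∧ Odd (orderOf (x : G)) := fun S hS => by
    obtain ⟨y, h1, h2⟩ := exists_odd (hM.simple S hS) (hM.nonab S hS)
    exact ⟨⟨y, hle S hS y.2⟩, y.2, fun h3 => h1 (Subtype.ext h3), (Subgroup.orderOf_coe y).symm ▸ h2⟩
  have hcm : ∀ S ∈ 𝓢, ∀ S' ∈ 𝓢, S' ≠ S → ∀ x y : T, (x : G) ∈ S → (y : G) ∈ S' → e y * e x = e x * e y :=
    fun S hS S' hS' h1 x y hx hy => by
      rw [← map_mul, ← map_mul]
      exact congrArg e (Subtype.ext (hM.comm S' hS' S hS h1 y hy x hx))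
  have step : ∀ S ∈ 𝓢, ∀ b : T, (b : G) ∈ S → (b : G) ≠ 1 → Odd (orderOf (b : G)) → c2 (e b) = 0 →
      ∀ S' ∈ 𝓢, S' ≠ S → ∀ y : T, (y : G) ∈ S' → c2 (e y) = 0 := fun S hS b hb h1 h2 h3 S' hS' h4 y hy =>
    c2_of_perfect (by rwa [ho]) (hne b h1) h3 (e.toMonoidHom.comp (Subgroup.inclusion (hle S' hS')))
      (perfect_of (hM.simple S' hS') (hM.nonab S' hS')) (fun z => hcm S hS S' hS' h4 b _ hb z.2) ⟨y, hy⟩
  have hoc : ∀ x : T, orderOf ((MulAut.conjNormal h x : T) : G) = orderOf (x : G) := fun x => by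
    rw [Subgroup.orderOf_coe, Subgroup.orderOf_coe, MulEquiv.orderOf_eq]
  have hnc : ∀ x : T, ((MulAut.conjNormal h x : T) : G) = 1 ↔ (x : G) = 1 := fun x => by
    rw [← orderOf_eq_one_iff, hoc, orderOf_eq_one_iff]
  obtain ⟨S, hS, b, hb, h1, h2, h3⟩ : ∃ S ∈ 𝓢, ∃ b : T, (b : G) ∈ S ∧ (b : G) ≠ 1 ∧ Odd (orderOf (b : G)) ∧ c2 (e b) = 0 := by
    obtain ⟨S, hS⟩ := hM.two.nonempty
    obtain ⟨x, hx, h1, h2⟩ := hodd S hS
    by_cases h3 : c2 (e x) = 0
    · exact ⟨S, hS, x, hx, h1, h2, h3⟩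
    by_cases h4 : c1 (e x) = 0
    · obtain ⟨b, rfl⟩ := (MulAut.conjNormal (H := T) h).surjective x
      refine ⟨_, hM.perm h⁻¹ (inv_mem hh) S hS, b, mem_cj.2 ?_, fun h5 => h1 ((hnc b).2 h5), hoc b ▸ h2, (hα b).1 h4⟩
      rw [inv_inv]
      exact hx
    obtain ⟨S', hS', h5⟩ := hoth S
    refine absurd ⟨⟨fun p q => ?_⟩⟩ (hM.nonab S' hS')
    have h6 : e ⟨p, hle S' hS' p.2⟩ * e ⟨q, hle S' hS' q.2⟩ = e ⟨q, hle S' hS' q.2⟩ * e ⟨p, hle S' hS' p.2⟩ :=
      Subtype.ext (comm_of_comm ⟨h4, h3⟩ (congrArg Subtype.val (hcm S hS S' hS' h5 x _ hx p.2))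
        (congrArg Subtype.val (hcm S hS S' hS' h5 x _ hx q.2)))
    rw [← map_mul, ← map_mul] at h6
    exact Subtype.ext (congrArg Subtype.val (e.injective h6) :)
  have hall : ∀ S₁ ∈ 𝓢, ∀ y : T, (y : G) ∈ S₁ → c2 (e y) = 0 := by
    intro S₁ hS₁ y hy
    by_cases h4 : S₁ = S
    · obtain ⟨S', hS', h5⟩ := hoth S
      obtain ⟨b', hb', h6, h7⟩ := hodd S' hS'
      exact step S' hS' b' hb' h6 h7 (step S hS b hb h1 h2 h3 S' hS' h5 b' hb') S₁ hS₁ (h4 ▸ h5.symm) y hy
    · exact step S hS b hb h1 h2 h3 S₁ hS₁ h4 y hy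
  exact hne _ (fun h4 => h1 ((hnc b).1 h4)) (eq_one_of_c (by rwa [ho, hoc]) ((hα b).2 h3)
    (hall _ (hM.perm h hh S hS) _ (conj_mem_cj h hb)))

theorem loc_false (hEl : Sv.BoxEl) (hq : 4 ≤ Nat.card F) {m : ℕ} (c : LieCtx T H m 2) [T.Normal] (e : T ≃* Sp4 F) {h : G}
    (hh : h ∈ H) (hα : ∀ x : T, c1 (e (MulAut.conjNormal h x)) = 0 ↔ c2 (e x) = 0) {E : Subgroup G} {r : ℕ}
    (hL : DS.Loc T H E r) : False := by
  have hA : ∀ x : T, e x ∈ (E.subgroupOf T).map e.toMonoidHom ↔ (x : G) ∈ E := fun x =>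
    Subgroup.mem_map_iff_mem (f := e.toMonoidHom) e.injective
  generalize (E.subgroupOf T).map e.toMonoidHom = A at hA
  obtain ⟨t, h1, h2, h3, h4, h5⟩ := loc_core (α := MulAut.congr e (MulAut.conjNormal h)) (A := A) hq
    (fun y => by
      obtain ⟨x, rfl⟩ := e.surjective y
      rw [← hα]
      simp)
    (by
      obtain ⟨x, hx⟩ := Subgroup.ne_bot_iff_exists_ne_one.1 hL.ne_bot
      refine Subgroup.ne_bot_iff_exists_ne_one.2 ⟨⟨e ⟨x, hL.le_S x.2⟩, (hA _).2 x.2⟩, fun h1 => hx (Subtype.ext ?_)⟩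
      exact (congrArg Subtype.val (e.injective ((congrArg Subtype.val h1).trans (map_one e).symm)) :))
    (fun a ha b hb => by
      obtain ⟨a, rfl⟩ := e.surjective a
      obtain ⟨b, rfl⟩ := e.surjective b
      rw [← map_mul, ← map_mul]
      exact congrArg e (Subtype.ext (hL.comm _ ((hA a).1 ha) _ ((hA b).1 hb))))
    (fun a ha => by
      obtain ⟨a, rfl⟩ := e.surjective a
      rw [MulEquiv.orderOf_eq, ← Subgroup.orderOf_coe]
      exact (hL.prime.odd_of_ne_two (c.ne_of_loc hL)).of_dvd_nat (orderOf_dvd_of_pow_eq_one (hL.pow _ ((hA a).1 ha))))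
    (fun a => by
      obtain ⟨a, rfl⟩ := e.surjective a
      have e1 : MulAut.congr e (MulAut.conjNormal h) (e a) = e (MulAut.conjNormal h a) := by simp
      rw [e1, hA, hA]
      exact (Subgroup.mem_normalizer_iff.1 (hL.norm.ge hh) a).symm)
  exact absurd (loc_X hEl c.as c.half c.not_dvd_d hL.le_S hL.comm hL.norm e hA h1 h2 h3 h4) (not_le.2 h5)

end B2

/-- **[C-B2]** -/
theorem boxB2_of (ht : BoxTri) (hEl : Sv.BoxEl) (s : Sims) : BoxB2 := by
  intro hK G _ _ T H m c K _ _ _ e o hq ⟨g, hg⟩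
  have hq' : 4 ≤ Nat.card K := by rwa [Nat.card_eq_fintype_card]
  have hTn := c.as.normal
  obtain ⟨h, hh, t, htT, rfl⟩ := c.as.exists_mul c.half g
  have h1 : MulAut.congr (e.trans (mkE K).symm) (MulAut.conjNormal (H := T) h) ∉ (conjHom 2 K).range := by
    intro h2
    apply hg
    have h3 := (congE_mem_range _).2 (mul_mem h2 (conj_mem_P ((mkE K).symm (e ⟨t, htT⟩))))
    have h4 : congE K (MulAut.congr (e.trans (mkE K).symm) (MulAut.conjNormal (H := T) h) *
        MulAut.conj ((mkE K).symm (e ⟨t, htT⟩))) = ind c.as.normal e (h * t) := by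
      rw [map_mul, congE_conj, MulEquiv.apply_symm_apply, ind, map_mul, map_mul, MulAut.conjNormal_val (h := ⟨t, htT⟩)]
      generalize MulAut.conjNormal (H := T) h = β
      congr 1
      · ext1 x
        rw [congE_apply]
        simp
      · ext1 x
        simp only [_root_.MulAut.conj_apply, _root_.MulAut.congr_apply, _root_.MulEquiv.trans_apply, _root_.map_mul, _root_.MulEquiv.apply_symm_apply, _root_.map_inv]
    rwa [h4] at h3
  obtain ⟨φ, hφ⟩ := c1_of_graph hq' h1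
  have hα : ∀ x : T, c1 ((e.trans (mkE K).symm) (MulAut.conjNormal h x)) = 0 ↔ c2 ((e.trans (mkE K).symm) x) = 0 := by
    intro x
    rw [← map_eq_zero φ (a := c2 _), ← hφ]
    generalize e.trans (mkE K).symm = e'
    simp
  rcases ht G T H m c.as c.half with ⟨E, r, hL⟩ | ⟨N, hN⟩ | ⟨𝓢, hM⟩
  · exact B2.loc_false hEl hq' c _ hh hα hL
  · exact Cases.false_of_sims s hK c o hN (Or.inr (Or.inl ⟨K, inferInstance, inferInstance, inferInstance, 2, le_rfl,
      fun _ => by omega, ⟨e⟩⟩))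
  · exact B2.mul_false _ hh hα hM

end Cfsg.Agent.TH.Cl
end

private theorem dce_8acd14bfaf83 : _root_.True := by
  try have : _root_.True := by simp only [_root_.Cfsg.Agent.H319.FC.mkE.congr_simp]
  try have : _root_.True := by simp only [_root_.Cfsg.Agent.TH.Cl.ind.eq_1]
  exact _root_.True.intro
end

-- part: TH/Spor/CH
section
prune_inst 0x46040006802100000008502020000200000000200430000b1000600020b10438044060102000b1089120c700008004000100109020800000a000a00400000000000000001400000200000001000000000000000000000000000000000041000000000000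
set_option linter.all false
open scoped Cfsg.Agent.FastGrp

/-!
# S3541, the divisibility of Curtis and Fossum (helper53)

* `boxCH : BoxCH`.
-/

set_option autoImplicit false

namespace Cfsg.Agent.TH.Spor.CH

open Cfsg Cfsg.Agent.H949.SubDeg

variable {K : Type} [Group K] (A : Subgroup K)

/-- the fibres of `(a, b) ↦ a g b` -/
theorem card_fib [Fintype A] [DecidableEq K] (g d : K) (hd : Dc A g d) :
    (Finset.univ.filter fun p : A × A => (p.1 : K) * g * p.2 = d).card = Nat.card ↥(A ⊓ cj g A) := by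
  obtain ⟨a, ha, b, hb, rfl⟩ := hd
  rw [← Fintype.card_subtype, ← Nat.card_eq_fintype_card]
  symm
  refine Nat.card_congr (Equiv.ofBijective (fun c => ⟨(⟨a * c, A.mul_mem ha c.2.1⟩,
    ⟨(g⁻¹ * c * g)⁻¹ * b, A.mul_mem (A.inv_mem (mem_cj.1 c.2.2)) hb⟩), by simp only; group⟩) ⟨fun c c' h => ?_, ?_⟩)
  · have h1 : a * (c : K) = a * c' := congrArg (fun p => ((p.1.1 : A) : K)) h
    exact Subtype.ext (mul_left_cancel h1)
  · rintro ⟨⟨x, y⟩, h⟩
    have h : (x : K) * g * y = a * g * b := h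
    have h1 : g⁻¹ * (a⁻¹ * x) * g = b * (y : K)⁻¹ := by
      calc g⁻¹ * (a⁻¹ * x) * g = g⁻¹ * a⁻¹ * (x * g * y) * (y : K)⁻¹ := by group
        _ = b * (y : K)⁻¹ := by rw [h]; group
    refine ⟨⟨a⁻¹ * x, A.mul_mem (A.inv_mem ha) x.2, mem_cj.2 (h1 ▸ A.mul_mem hb (A.inv_mem y.2))⟩, Subtype.ext
      (Prod.ext (Subtype.ext ?_) (Subtype.ext ?_))⟩
    · show a * (a⁻¹ * x) = x
      group
    · show (g⁻¹ * (a⁻¹ * x) * g)⁻¹ * b = y
      rw [h1]
      group

/-- the sum of `χ` over a coset -/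
noncomputable def ph [Fintype A] (χ : K → ℂ) (g : K) : ℂ := ∑ x : A, χ (g * x)

variable [Fintype A] {χ : K → ℂ}

theorem ph_mul (g : K) {h : K} (hh : h ∈ A) : ph A χ (g * h) = ph A χ g := by
  unfold ph
  rw [← Equiv.sum_comp (Equiv.mulLeft (⟨h, hh⟩ : A)) (fun x : A => χ (g * x))]
  exact Finset.sum_congr rfl fun x _ => by rw [mul_assoc]; rfl

theorem swap (hc : IsClassFunction K χ) (a b : K) : χ (a * b) = χ (b * a) := by
  rw [← hc (b * a) a]
  congr 1
  group

theorem mul_ph (hc : IsClassFunction K χ) (g : K) {h : K} (hh : h ∈ A) : ph A χ (h * g) = ph A χ g := by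
  unfold ph
  rw [← Equiv.sum_comp (Equiv.mulRight (⟨h, hh⟩ : A)) (fun x : A => χ (g * x))]
  refine Finset.sum_congr rfl fun x _ => ?_
  rw [mul_assoc, swap hc, mul_assoc]
  rfl

theorem card_ne : (Nat.card A : ℂ) ≠ 0 := by exact_mod_cast Nat.card_pos.ne'

theorem ph_eq [Fintype K] (hc : IsClassFunction K χ) (g : K) :
    ph A χ g = Nat.card ↥(A ⊓ cj g A) * hval A g χ := by
  classical
  have h1 : ∑ p : A × A, χ (p.1 * g * p.2) = Nat.card A * ph A χ g := by
    rw [Fintype.sum_prod_type]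
    have h2 : ∀ a : A, ∑ b : A, χ (a * g * b) = ph A χ g := fun a => mul_ph A hc g a.2
    simp only [h2]
    rw [Finset.sum_const, Finset.card_univ, nsmul_eq_mul, Nat.card_eq_fintype_card]
  have h2 : ∑ p : A × A, χ (p.1 * g * p.2) =
      Nat.card ↥(A ⊓ cj g A) * ∑ d : K, (if Dc A g d then (1 : ℂ) else 0) * χ d := by
    rw [← Finset.sum_fiberwise Finset.univ (fun p : A × A => (p.1 : K) * g * p.2), Finset.mul_sum]
    refine Finset.sum_congr rfl fun d _ => ?_
    rw [Finset.sum_congr rfl fun p hp => congrArg χ (Finset.mem_filter.1 hp).2, Finset.sum_const, nsmul_eq_mul]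
    split_ifs with hd
    · rw [card_fib A g d hd, one_mul]
    · rw [Finset.filter_eq_empty_iff.2 fun p _ hp => hd ⟨p.1, p.1.2, p.2, p.2.2, hp.symm⟩]
      simp only [_root_.Finset.card_empty, _root_.CharP.cast_eq_zero, _root_.MulZeroClass.zero_mul, _root_.Subgroup.mem_inf, _root_.Subgroup.mem_map, _root_.MulEquiv.toMonoidHom_eq_coe, _root_.MonoidHom.coe_coe, _root_.MulAut.conj_apply, _root_.Nat.card_eq_fintype_card, _root_.MulZeroClass.mul_zero]
  refine mul_left_cancel₀ (card_ne A) ?_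
  rw [← h1, h2, hval, mul_left_comm, mul_inv_cancel_left₀ (card_ne A)]

theorem ph_conv [Fintype K] [Fintype (K ⧸ A)] (hχ : IsIrrCharacter K χ) (k : K) :
    ∑ Y : K ⧸ A, ph A χ (k * Y.out) * ph A χ Y.out⁻¹ = Nat.card K / χ 1 * ph A χ k := by
  have hc := Characters.Core.isIrr_isClassFunction hχ
  refine mul_left_cancel₀ (card_ne A) ?_
  rw [← sum_quot A (fun h => ph A χ (k * h) * ph A χ h⁻¹) fun x h hh => by
    rw [← mul_assoc, ph_mul A _ hh, mul_inv_rev, mul_ph A hc _ (A.inv_mem hh)]]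
  have h1 : ∀ h, ph A χ (k * h) * ph A χ h⁻¹ = ∑ x : A, ∑ y : A, χ (x * k * h) * χ (h⁻¹ * y) := by
    intro h
    rw [ph, ph, Finset.sum_mul_sum]
    refine Finset.sum_congr rfl fun x _ => Finset.sum_congr rfl fun y _ => ?_
    rw [swap hc (k * h), mul_assoc]
  simp only [h1]
  rw [Finset.sum_comm]
  have h2 : ∀ x : A, ∑ h : K, ∑ y : A, χ (x * k * h) * χ (h⁻¹ * y) = Nat.card K / χ 1 * ph A χ k := by
    intro x
    rw [Finset.sum_comm, ← mul_ph A hc k x.2, ph, Finset.mul_sum]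
    refine Finset.sum_congr rfl fun y _ => ?_
    rw [SporadicA.NortonTrick.conv hχ]
    ring
  simp only [h2]
  rw [Finset.sum_const, Finset.card_univ, nsmul_eq_mul, Nat.card_eq_fintype_card (α := A)]

end Cfsg.Agent.TH.Spor.CH

namespace Cfsg.Agent.TH.Spor

open Cfsg Cfsg.Agent.H949.SubDeg CH

/-- **CH** -/
theorem boxCH : BoxCH := by
  intro K _ _ A _ μ c χ hχ hc hμ hn
  classical
  by_contra h0
  apply hn
  have : Fintype K := Fintype.ofFinite K
  have : Fintype (K ⧸ A) := Fintype.ofFinite _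
  have hcl := Characters.Core.isIrr_isClassFunction hχ
  have hμ0 : μ ≠ 0 := fun h => by
    have h1 := hμ 1
    rw [h, zero_dvd_iff] at h1
    exact Nat.card_pos.ne' h1
  have hμC : (μ : ℂ) ≠ 0 := by exact_mod_cast hμ0
  have hc0 : c ≠ 0 := fun h => Characters.Core.isIrr_apply_one_ne_zero hχ (by rw [hc, h, Nat.cast_zero])
  have hcC : (c : ℂ) ≠ 0 := by exact_mod_cast hc0
  obtain ⟨ψ, hψ⟩ : ∃ ψ : K → ℂ, ∀ g, ψ g = ph A χ g / μ := ⟨_, fun _ => rfl⟩
  have h1 : ∀ g, IsIntegral ℤ (ψ g) := fun g => by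
    obtain ⟨e, he⟩ := hμ g
    rw [hψ, ph_eq A hcl, he, Nat.cast_mul, mul_assoc, mul_div_cancel_left₀ _ hμC]
    exact (isIntegral_natCast e).mul (isIntegral_hval A g (Characters.Core.isIrr_isCharacter hχ))
  have h2 : ∀ k, (Nat.card K / (μ * c) : ℂ) * ψ k = ∑ Y : K ⧸ A, ψ Y.out⁻¹ * ψ (k * Y.out) := fun k => by
    have h3 := ph_conv A hχ k
    rw [hc] at h3
    simp only [hψ]
    have h4 : ∀ Y : K ⧸ A, ph A χ Y.out⁻¹ / μ * (ph A χ (k * Y.out) / μ) =
        ph A χ (k * Y.out) * ph A χ Y.out⁻¹ / (μ * μ) := fun Y => by field_simp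
    simp only [h4]
    rw [← Finset.sum_div, h3]
    field_simp
  have h3 : IsIntegral (integralClosure ℤ ℂ) (Nat.card K / (μ * c) : ℂ) := by
    refine isIntegral_of_smul_mem_submodule (Submodule.span (integralClosure ℤ ℂ) (Set.range ψ)) (fun h => ?_)
      (Submodule.fg_span (Set.finite_range ψ)) _ fun n hn => ?_
    · have h4 : ψ 1 = 0 := Submodule.span_eq_bot.1 h _ ⟨1, rfl⟩
      rw [hψ, div_eq_zero_iff] at h4
      refine h0 ?_
      simpa only [ph, one_mul] using h4.resolve_right hμC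
    · induction hn using Submodule.span_induction with
      | mem x hx =>
        obtain ⟨k, rfl⟩ := hx
        rw [smul_eq_mul, h2]
        exact Submodule.sum_mem _ fun Y _ => Submodule.smul_mem _ (⟨_, h1 Y.out⁻¹⟩ : integralClosure ℤ ℂ)
          (Submodule.subset_span ⟨_, rfl⟩)
      | zero => rw [smul_zero]; exact Submodule.zero_mem _
      | add x y _ _ hx hy => rw [smul_add]; exact Submodule.add_mem _ hx hy
      | smul a x _ hx => rw [smul_comm]; exact Submodule.smul_mem _ a hx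
  have h4 : IsIntegral ℤ (Nat.card K / (μ * c) : ℂ) := isIntegral_trans _ h3
  have h5 : IsIntegral ℤ ((Nat.card K : ℚ) / (μ * c)) := by
    refine (isIntegral_algHom_iff (Rat.castHom ℂ).toIntAlgHom (Rat.castHom ℂ).injective).1 ?_
    simpa only [_root_.Nat.card_eq_fintype_card, _root_.map_div₀, _root_.map_natCast, _root_.eq_ratCast, _root_.Rat.cast_mul, _root_.Rat.cast_natCast] using h4
  obtain ⟨y, hy⟩ := IsIntegrallyClosed.isIntegral_iff.1 h5
  have h6 : (μ * c : ℚ) ≠ 0 := by exact_mod_cast mul_ne_zero hμ0 hc0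
  have h7 : (Nat.card K : ℤ) = (μ * c : ℕ) * y := by
    have h8 : (Nat.card K : ℚ) = μ * c * y := by
      rw [eq_div_iff h6] at hy
      rw [← hy, mul_comm]
      rfl
    exact_mod_cast h8
  exact Int.natCast_dvd_natCast.1 ⟨y, h7⟩

end Cfsg.Agent.TH.Spor

private theorem dce_257cf21a1eff : _root_.True := by
  try have : _root_.True := by simp only [_root_.Cfsg.Agent.TH.Spor.CH.ph.eq_1]
  try have : _root_.True := by simp only [_root_.Cfsg.Agent.H949.SubDeg.hval.eq_1]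
  exact _root_.True.intro
end

-- part: TH/Ex1/Enum
section
set_option linter.all false
open scoped Cfsg.Agent.FastGrp

/-!
# S3541: the simple subgroups in cross characteristic of a linear group of degree at most `248` (helper53)
-/

set_option autoImplicit false

namespace Cfsg.Agent.TH.Ex1

open Cfsg Subgroup Cfsg.Agent.OrdDiv Cfsg.Agent.H290.ElReg Cfsg.Agent.H290.ElTab Cfsg.Agent.H252.EN
  Cfsg.Agent.H889.Enum

/-- the order of the group and of its automorphism group -/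
theorem enum (hK : AllK) {n p : ℕ} [Fact p.Prime] (hn : n ≤ 248) {F : Type} [Field F] [CharP F p] {N : Type} [Group N]
    [Finite N] [IsSimpleGroup N] (hc : ¬ IsMulCommutative N) (hf : Fth n F N) (hL : ¬ IsLieTypeChar p N) :
    (∃ c, 5 ≤ c ∧ Nonempty (N ≃* alternatingGroup (Fin c)) ∧ 2 * Nat.card N = c.factorial ∧
      Nat.card (MulAut N) = autA c) ∨
    (∃ x ∈ spor, OrdDiv.Real x.1 N ∧ Nat.card N = x.2 ∧ Nat.card (MulAut N) ∣ 2 * x.2) ∨
    ∃ x ∈ reg n, x.2.1 ≠ p ∧ (∃ g, H902.Names.IsLie g x.1 x.2.1 x.2.2 ∧ OrdDiv.Real g N) ∧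
      Nat.card N = od x.1 x.2.1 x.2.2 ∧ Nat.card (MulAut N) = ouN x.1 x.2.1 x.2.2 * od x.1 x.2.1 x.2.2 := by
  have hna : ¬ ∀ a b : N, a * b = b * a := fun h => hc ⟨⟨h⟩⟩
  have key : IsSporadicGroup N ∨ Lie.IsoTits N → Nat.card (Out N) ∣ 2 →
      ∃ x ∈ spor, OrdDiv.Real x.1 N ∧ Nat.card N = x.2 ∧ Nat.card (MulAut N) ∣ 2 * x.2 := fun h h2 => by
    obtain ⟨x, hx, hr⟩ := H977.T5Spor.exists_real h
    have h3 := table.spor N x hx hr
    exact ⟨x, hx, hr, h3, by rw [← H934.OutB.card_out_mul N hc, h3]; exact Nat.mul_dvd_mul_right h2 _⟩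
  rcases cross_lie table hn hna (hK N) hf hL with ⟨c, h5, he⟩ | h | h | ⟨g, X, l, a, hg, hT, hA, hr, hl⟩
  · refine Or.inl ⟨c, h5, he, ?_, aut_alt hna h5 he⟩
    obtain ⟨e⟩ := he
    rw [Nat.card_congr e.toEquiv]
    exact card_alt (by omega)
  · exact Or.inr (Or.inl (key (Or.inr h) (out_tits h)))
  · exact Or.inr (Or.inl (key (Or.inl h) (H149.Sp.card_out_dvd_two h)))
  · exact Or.inr (Or.inr ⟨_, hr, hl, ⟨g, hg, hT⟩, real_eq hA, by rw [aut_ouN hna hg hT hA, real_eq hA]⟩)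

/-- `H ⊓ T` acts faithfully on `N` -/
theorem card_dvd_aut {G : Type*} [Group G] [Finite G] {T H N : Subgroup G} (hS : Sim T H N) :
    Nat.card ↥(H ⊓ T) ∣ Nat.card (MulAut N) := by
  have h1 : H ⊓ T ≤ normalizer (N : Set G) := le_normalizer_of_conj fun a ha => hS.nrm a ha.1
  refine card_dvd_of_injective (N.normalizerMonoidHom.comp (inclusion h1)) ?_
  rw [injective_iff_map_eq_one]
  intro a ha
  refine Subtype.ext (hS.cent a a.2.2 fun x hx => ?_)
  exact mul_inv_eq_iff_eq_mul.1 (congrArg Subtype.val (MulEquiv.congr_fun ha ⟨x, hx⟩))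

end Cfsg.Agent.TH.Ex1
end
end
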